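import Groth.Agent.L27.ShriekBC.Comp
import Groth.Agent.L27.ExtZero.ShriekFiltered

/-! # Descending liftings along proper surjections onto an open subscheme -/

universe u

open CategoryTheory CategoryTheory.Limits AlgebraicGeometry Opposite

set_option backward.isDefEq.respectTransparency.types false
set_option linter.style.haveILetI false
set_option linter.unusedSectionVars false
set_option linter.unusedVariables false

namespace Groth.L27.ShriekBC

open EtSite.BC (P eta swap psi)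

theorem swap_naturality {X Y X' Y' : Scheme.{u}} {f : X ⟶ Y} {g : Y' ⟶ Y} {f' : X' ⟶ Y'} {g' : X' ⟶ X}
    (h : IsPullback g' f' f g) {V V' : Y.Etale} (a : V' ⟶ V) :
    (EtCoh.bc f').map ((EtCoh.bc g).map a) ≫ swap h.w V =
      swap h.w V' ≫ (EtCoh.bc g').map ((EtCoh.bc f).map a) := by
  refine MorphismProperty.Over.Hom.ext ?_
  set A := (EtCoh.bc f').map ((EtCoh.bc g).map a) ≫ swap h.w V with hA
  set B := swap h.w V' ≫ (EtCoh.bc g').map ((EtCoh.bc f).map a) with hB
  have hsnd : A.left ≫ pullback.snd ((EtCoh.bc f).obj V).hom g' = B.left ≫ pullback.snd ((EtCoh.bc f).obj V).hom g' :=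
    (MorphismProperty.Over.w A).trans (MorphismProperty.Over.w B).symm
  refine pullback.hom_ext (pullback.hom_ext ?_ ?_) hsnd
  · have e1 : (A.left ≫ pullback.fst ((EtCoh.bc f).obj V).hom g') ≫ pullback.fst V.hom f =
        EtShriek.prV f' ((EtCoh.bc g).obj V') ≫ pullback.fst V'.hom g ≫ a.left := by
      refine (Category.assoc _ _ _).trans ((Category.assoc _ _ _).trans ?_)
      refine (congrArg (_ ≫ ·) ((Category.assoc _ _ _).symm.trans (down_fst h V))).trans ?_
      refine (Category.assoc _ _ _).symm.trans ((congrArg (· ≫ _) (EtCoh.isPullback_bc_map f' _).w).trans ?_)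
      exact (Category.assoc _ _ _).trans (congrArg (_ ≫ ·) (EtCoh.isPullback_bc_map g a).w)
    have e2 : (B.left ≫ pullback.fst ((EtCoh.bc f).obj V).hom g') ≫ pullback.fst V.hom f =
        EtShriek.prV f' ((EtCoh.bc g).obj V') ≫ pullback.fst V'.hom g ≫ a.left := by
      refine (Category.assoc _ _ _).trans ((Category.assoc _ _ _).trans ?_)
      have i1 : ((EtCoh.bc g').map ((EtCoh.bc f).map a)).left ≫ pullback.fst ((EtCoh.bc f).obj V).hom g' ≫
          pullback.fst V.hom f = pullback.fst ((EtCoh.bc f).obj V').hom g' ≫ EtShriek.prV f V' ≫ a.left :=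
        (Category.assoc _ _ _).symm.trans ((congrArg (· ≫ _) (EtCoh.isPullback_bc_map g' _).w).trans
          ((Category.assoc _ _ _).trans (congrArg (_ ≫ ·) (EtCoh.isPullback_bc_map f a).w)))
      refine (congrArg (_ ≫ ·) i1).trans ?_
      refine (Category.assoc _ _ _).symm.trans ((Category.assoc _ _ _).symm.trans ?_)
      exact (congrArg (· ≫ a.left) (down_fst h V')).trans (Category.assoc _ _ _)
    exact e1.trans e2.symm
  · have key : ∀ C : (EtCoh.bc f').obj ((EtCoh.bc g).obj V') ⟶ (EtCoh.bc g').obj ((EtCoh.bc f).obj V),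
        (C.left ≫ pullback.fst ((EtCoh.bc f).obj V).hom g') ≫ pullback.snd V.hom f =
          (C.left ≫ pullback.snd ((EtCoh.bc f).obj V).hom g') ≫ g' := fun C =>
      (Category.assoc _ _ _).trans ((congrArg (C.left ≫ ·) pullback.condition).trans (Category.assoc _ _ _).symm)
    exact (key A).trans ((congrArg (· ≫ g') hsnd).trans (key B).symm)

theorem supp_sub {X : Scheme.{u}} (F : EtCoh.Ab X) {U : X.Etale} (s t : EtCoh.sect F U) :
    EtShriek.sectSupp F U (s - t) ⊆ EtShriek.sectSupp F U s ∪ EtShriek.sectSupp F U t := by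
  rw [sub_eq_add_neg]
  exact (Supp.supp_add F s (-t)).trans (Set.union_subset_union_right _ (Supp.supp_neg F t))

section Omega

variable {Z X Z' X' : Scheme.{u}} {e : Z ⟶ X} {e' : Z' ⟶ X'} {gZ : Z' ⟶ Z} {g' : X' ⟶ X}
  (hZ : IsPullback gZ e' e g') (F : EtCoh.Ab X)

/-- Pulling sections back along the base change of `e`. -/
noncomputable def omega : (EtCoh.pull g').obj F ⟶ (EtCoh.push e').obj (P gZ (P e F)) :=
  ((EtCoh.pullPushAdj g').homEquiv _ _).symm ((EtCoh.pullPushAdj e).unit.app F ≫ bcT hZ (P e F))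

theorem omega_eta (W : X.Etale) (s : EtCoh.sect F W) :
    (omega hZ F).hom.app (op ((EtCoh.bc g').obj W)) (eta g' F W s) = psi hZ (P e F) W (eta e F W s) := by
  have e₁ : (EtCoh.pullPushAdj g').homEquiv _ _ (omega hZ F) =
      (EtCoh.pullPushAdj e).unit.app F ≫ bcT hZ (P e F) := Equiv.apply_symm_apply _ _
  refine Eq.trans ?_ (bcT_app hZ (P e F) W (eta e F W s))
  refine Eq.trans ?_ ((congrArg (fun φ : F ⟶ (EtCoh.push g').obj ((EtCoh.push e').obj (P gZ (P e F))) =>
    φ.hom.app (op W) s) e₁).trans (ConcreteCategory.comp_apply _ _ _))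
  exact ((congrArg (fun φ : F ⟶ (EtCoh.push g').obj ((EtCoh.push e').obj (P gZ (P e F))) => φ.hom.app (op W) s)
    ((EtCoh.pullPushAdj g').homEquiv_unit (X := F) (Y := (EtCoh.push e').obj (P gZ (P e F)))
      (f := omega hZ F))).trans (ConcreteCategory.comp_apply _ _ _)).symm

theorem omega_map {Q Q' : X'.Etale} (d : Q' ⟶ Q) (t : EtCoh.sect (P g' F) Q) :
    (omega hZ F).hom.app (op Q') ((P g' F).obj.map d.op t) =
      (P gZ (P e F)).obj.map ((EtCoh.bc e').map d).op ((omega hZ F).hom.app (op Q) t) :=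
  NatTrans.naturality_apply (omega hZ F).hom d.op t

/-- The support after pulling back. -/
theorem supp_omega (Q : X'.Etale) (t : EtCoh.sect (P g' F) Q) :
    EtShriek.sectSupp (P gZ (P e F)) ((EtCoh.bc e').obj Q) ((omega hZ F).hom.app (op Q) t) =
      (EtShriek.prV e' Q) ⁻¹' EtShriek.sectSupp (P g' F) Q t := by
  ext x
  obtain ⟨W, -, Q', d, l, q', s₀, hd, -, heq⟩ := EtSite.EtaLocal.exists_local g' F
    (V := EtCoh.top X) (MorphismProperty.Over.homMk (pullback.lift (Q.hom ≫ g') Q.hom (Category.comp_id _))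
      (pullback.lift_snd _ _ _)) t (EtShriek.prV e' Q x)
  obtain ⟨y, hy, hy'⟩ := Scheme.exists_preimage_of_isPullback (EtCoh.isPullback_bc_map e' d) x q' hd.symm
  have h1 : EtShriek.sectSupp (P gZ (P e F)) ((EtCoh.bc e').obj Q')
      ((omega hZ F).hom.app (op Q') ((P g' F).obj.map d.op t)) =
        (((EtCoh.bc e').map d).left) ⁻¹' EtShriek.sectSupp (P gZ (P e F)) ((EtCoh.bc e').obj Q)
          ((omega hZ F).hom.app (op Q) t) := by
    rw [omega_map, Supp.supp_map_eq]
  have h2 : EtShriek.sectSupp (P gZ (P e F)) ((EtCoh.bc e').obj Q')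
      ((omega hZ F).hom.app (op Q') ((P g' F).obj.map d.op t)) =
        (downB hZ l) ⁻¹' ((pullback.fst W.hom e) ⁻¹' EtShriek.sectSupp F W s₀) := by
    rw [heq, omega_map, omega_eta, supp_map_psi, supp_eta]
    rfl
  have h3 : d.left ⁻¹' EtShriek.sectSupp (P g' F) Q t =
      (l.left ≫ pullback.fst W.hom g') ⁻¹' EtShriek.sectSupp F W s₀ := by
    rw [← Supp.supp_map_eq, heq, Supp.supp_map_eq, supp_eta]
    rfl
  have i1 : x ∈ EtShriek.sectSupp (P gZ (P e F)) ((EtCoh.bc e').obj Q) ((omega hZ F).hom.app (op Q) t) ↔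
      pullback.fst W.hom e (downB hZ l y) ∈ EtShriek.sectSupp F W s₀ := by
    rw [← hy]
    exact Set.ext_iff.1 (h1.symm.trans h2) y
  have i2 : EtShriek.prV e' Q x ∈ EtShriek.sectSupp (P g' F) Q t ↔
      (l.left ≫ pullback.fst W.hom g') q' ∈ EtShriek.sectSupp F W s₀ := by
    rw [← hd]
    exact Set.ext_iff.1 h3 q'
  refine i1.trans (Iff.trans (iff_of_eq (congrArg (· ∈ EtShriek.sectSupp F W s₀) ?_)) i2.symm)
  rw [← hy']
  exact (Scheme.Hom.comp_apply _ _ _).symm.trans
    ((congr($((isPullback_downB hZ l).w) y)).trans (Scheme.Hom.comp_apply _ _ _))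

end Omega

section Proper

variable {Z U X : Scheme.{u}} {π : Z ⟶ U} [IsProper π] [Surjective π] {ι : U ⟶ X} [IsOpenImmersion ι] {e : Z ⟶ X}
  (he : e = π ≫ ι)

include he in
theorem isProper_of_range {A B : Scheme.{u}} {a : B ⟶ A} {b : B ⟶ Z} {m : A ⟶ X} (sq : IsPullback a b m e)
    (hm : Set.range m ⊆ Set.range ι) : IsProper a ∧ Surjective a := by
  subst he
  let l := IsOpenImmersion.lift ι m hm
  have hl : l ≫ ι = m := IsOpenImmersion.lift_fac _ _ _
  have w : a ≫ l = b ≫ π := (cancel_mono ι).1 (by rw [Category.assoc, hl, Category.assoc]; exact sq.w)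
  have sq' : IsPullback a b l π := ⟨⟨w⟩, ⟨PullbackCone.IsLimit.mk w
    (fun s => sq.lift s.fst s.snd (by rw [← hl, ← Category.assoc, s.condition, Category.assoc]))
    (fun s => sq.lift_fst _ _ _) (fun s => sq.lift_snd _ _ _)
    (fun s m h1 h2 => sq.hom_ext (h1.trans (sq.lift_fst _ _ _).symm) (h2.trans (sq.lift_snd _ _ _).symm))⟩⟩
  exact ⟨MorphismProperty.of_isPullback (P := @IsProper) sq'.flip inferInstance,
    MorphismProperty.of_isPullback (P := @Surjective) sq'.flip inferInstance⟩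

include he in
theorem hom_fst_mem {A : Scheme.{u}} (m : A ⟶ X) (z : ↑(pullback m e)) : m (pullback.fst m e z) ∈ Set.range ι := by
  subst he
  refine ⟨π (pullback.snd m (π ≫ ι) z), ?_⟩
  rw [← Scheme.Hom.comp_apply, ← Scheme.Hom.comp_apply, ← Scheme.Hom.comp_apply, pullback.condition]

variable (F : EtCoh.Ab X)

include he in
theorem eta_injective_of_range (W : X.Etale) (hW : Set.range W.hom ⊆ Set.range ι) :
    Function.Injective (eta e F W) := by
  haveI := (isProper_of_range he (IsPullback.of_hasPullback W.hom e) hW).2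
  refine (injective_iff_map_eq_zero (eta e F W).hom).2 fun s hs => Supp.eq_zero_of_supp F s fun w hw => ?_
  obtain ⟨z, rfl⟩ := (pullback.fst W.hom e).surjective w
  have hz : z ∈ EtShriek.sectSupp (P e F) ((EtCoh.bc e).obj W) (eta e F W s) := by
    rw [supp_eta]
    exact hw
  rw [show eta e F W s = 0 from hs, Supp.supp_zero] at hz
  exact hz

variable {Y X' Y' : Scheme.{u}} {f : X ⟶ Y} [IsSeparated f] [LocallyOfFiniteType f] {g : Y' ⟶ Y} {f' : X' ⟶ Y'}
  {g' : X' ⟶ X} (h : IsPullback g' f' f g)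

include he in
/-- Descent of liftings along a proper surjection onto an open containing the support. -/
theorem surjAt_descend (hs : Surj (e ≫ f)) (R : Y'.Etale)
    (t : EtCoh.sect (P g' F) ((EtCoh.bc f').obj R)) (ht : Supp.IsProperSect f' (P g' F) t)
    (hsupp : ∀ u ∈ EtShriek.sectSupp (P g' F) ((EtCoh.bc f').obj R) t,
      g' (((EtCoh.bc f').obj R).hom u) ∈ Set.range ι) (r : R.left) : SurjAt h F R t r := by
  haveI : IsSeparated f' := MorphismProperty.of_isPullback h inferInstance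
  haveI : LocallyOfFiniteType f' := MorphismProperty.of_isPullback h inferInstance
  haveI : LocallyOfFiniteType e := by rw [he]; infer_instance
  obtain ⟨Z', gZ, e', hZ⟩ : ∃ (Z' : Scheme.{u}) (gZ : Z' ⟶ Z) (e' : Z' ⟶ X'), IsPullback gZ e' e g' :=
    ⟨_, _, _, IsPullback.of_hasPullback e g'⟩
  haveI : LocallyOfFiniteType e' := MorphismProperty.of_isPullback hZ inferInstance
  let F' := P g' F
  let G := P e F
  let G' := P gZ G
  let B := (EtCoh.bc f').obj R
  let C := EtShriek.sectSupp F' B t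
  -- the section upstairs
  let t₀ : EtCoh.sect G' ((EtCoh.bc e').obj B) := (omega hZ F).hom.app (op B) t
  obtain ⟨tZ, htZ⟩ := ((ConcreteCategory.isIso_iff_bijective (G'.obj.map (Supp.cmp e' f' R).op)).1 inferInstance).2 t₀
  have ht₀ : Supp.IsProperSect e' G' t₀ := by
    show ClSub.IsProperOver _ _
    rw [supp_omega]
    let c := (Scheme.IdealSheafData.vanishingIdeal (⟨C, Supp.isClosed_supp F' t⟩ :
      TopologicalSpace.Closeds B.left)).subschemeι
    have hcr : Set.range c = C := Supp.range_subscheme C _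
    haveI : IsProper (pullback.fst c (EtShriek.prV e' B)) := (isProper_of_range he
      ((IsPullback.of_hasPullback c (EtShriek.prV e' B)).paste_vert
        ((IsPullback.of_hasPullback B.hom e').paste_vert hZ.flip)) (by
        rintro - ⟨z, rfl⟩
        exact hsupp (c z) (hcr.subset ⟨z, rfl⟩))).1
    haveI : IsProper (pullback.snd c (EtShriek.prV e' B) ≫ EtShriek.prV e' B) := by
      rw [← pullback.condition]
      infer_instance
    have hr : (EtShriek.prV e' B) ⁻¹' C = Set.range (pullback.snd c (EtShriek.prV e' B)) := by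
      rw [Scheme.Pullback.range_snd, hcr]
    exact hr ▸ Supp.isProperOver_range_of_closedImmersion _ _
  have htZp : Supp.IsProperSect (e' ≫ f') G' tZ := by
    refine (Supp.isProperSect_comp_iff e' f' G' tZ).2 ?_
    rw [htZ]
    haveI := Supp.locallyOfFiniteType_prV e' B
    refine ⟨ht₀, Supp.isProperOver_of_subset _ (Supp.isClosed_image _ ht₀) ?_ ht⟩
    rintro - ⟨z, hz, rfl⟩
    exact (supp_omega hZ F B t).subset hz
  obtain ⟨V, sZ, R'', a, b, r'', hr, hsZ, heq⟩ := hs (hZ.paste_vert h) G R tZ htZp r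
  obtain ⟨sZ₀, hsZ₀⟩ : ∃ s, s = G.obj.map (Supp.cmp e f V).op sZ := ⟨_, rfl⟩
  obtain ⟨hp₁, hp₂⟩ := (Supp.isProperSect_comp_iff e f G sZ).1 hsZ
  rw [← hsZ₀] at hp₁ hp₂
  let XV := (EtCoh.bc f).obj V
  let D := EtShriek.prV e XV '' EtShriek.sectSupp G ((EtCoh.bc e).obj XV) sZ₀
  let M := (EtCoh.bc f').map b ≫ swap h.w V
  let TT := F'.obj.map ((EtCoh.bc f').map a).op t
  have eq0 : (omega hZ F).hom.app (op ((EtCoh.bc f').obj R'')) TT =
      G'.obj.map ((EtCoh.bc e').map M).op (psi hZ G XV sZ₀) := by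
    refine (omega_map hZ F _ t).trans ?_
    have e₁ := congrArg (G'.obj.map (Supp.cmp e' f' R'').op) heq
    rw [← Supp.cmp_nat e' f' G' a, ← Supp.cmp_nat e' f' G' b, psi_comp hZ h, htZ, ← hsZ₀] at e₁
    refine e₁.trans ?_
    rw [← Functor.map_comp_apply, ← op_comp, ← CategoryTheory.Functor.map_comp]
  have hDU : ∀ x ∈ D, XV.hom x ∈ Set.range ι := by
    rintro - ⟨z, -, rfl⟩
    exact hom_fst_mem he XV.hom z
  let Good : Set XV.left := {x | ∃ (W : X.Etale) (a' : W ⟶ XV) (w : W.left) (s₀ : EtCoh.sect F W),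
    a'.left w = x ∧ G.obj.map ((EtCoh.bc e).map a').op sZ₀ = eta e F W s₀}
  have hGo : IsOpen Good := by
    refine isOpen_iff_forall_mem_open.2 ?_
    rintro _ ⟨W, a', w, s₀, rfl, e₀⟩
    haveI := EtSite.etale_left a'
    exact ⟨Set.range a'.left, by rintro _ ⟨w', rfl⟩; exact ⟨W, a', w', s₀, rfl, e₀⟩, a'.left.isOpenMap.isOpen_range,
      w, rfl⟩
  let v := (b.left ≫ pullback.fst V.hom g) r''
  -- near the fibre the section is locally a pullback
  have hgood : ∀ x ∈ D, EtShriek.prV f V x = v → x ∈ Good := by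
    intro x hx hxv
    obtain ⟨u, hu, -⟩ := Scheme.exists_preimage_of_isPullback (isPullback_downB h b) x r'' hxv
    obtain ⟨W, a', Q', d, l, q', s₀, hd, hla, hloc⟩ := EtSite.EtaLocal.exists_local g' F M TT u
    let w := (l.left ≫ pullback.fst W.hom g') q'
    have haw : a'.left w = x := by
      refine Eq.trans ?_ hu
      refine (congrArg a'.left (Scheme.Hom.comp_apply _ _ _)).trans ?_
      refine (EtSite.EtaLocal.fst_map g' a' _).symm.trans ?_
      refine (congrArg (pullback.fst XV.hom g') ((Scheme.Hom.comp_apply _ _ _).symm.trans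
        ((congrArg (fun z : Q' ⟶ (EtCoh.bc g').obj XV => z.left q') hla).trans (Scheme.Hom.comp_apply _ _ _)))).trans ?_
      rw [hd]
      show pullback.fst XV.hom g' (M.left u) = downB h b u
      exact (Scheme.Hom.comp_apply M.left (pullback.fst XV.hom g') u).symm.trans
        (congrArg (fun z : ((EtCoh.bc f').obj R'').left ⟶ XV.left => z u) (Category.assoc _ _ _))
    let O : W.left.Opens := ⟨W.hom ⁻¹' Set.range ι, ι.isOpenEmbedding.isOpen_range.preimage W.hom.continuous⟩
    haveI : Etale W.hom := W.prop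
    let W₀ : X.Etale := Scheme.Etale.mk (O.ι ≫ W.hom)
    let i : W₀ ⟶ W := MorphismProperty.Over.homMk O.ι rfl
    let δ := G.obj.map ((EtCoh.bc e).map a').op sZ₀ - eta e F W s₀
    let δ₀ := G.obj.map ((EtCoh.bc e).map i).op δ
    haveI hP : IsProper (EtShriek.prV e W₀) := (isProper_of_range he (IsPullback.of_hasPullback W₀.hom e) (by
      rintro - ⟨z, rfl⟩
      exact z.2)).1
    have hδ₀ : Supp.IsProperSect e G δ₀ := ⟨Supp.isClosed_supp G δ₀, by
      show IsProper ((Scheme.IdealSheafData.vanishingIdeal _).subschemeι ≫ EtShriek.prV e W₀)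
      infer_instance⟩
    have hzero : G'.obj.map ((EtCoh.bc e').map l).op (psi hZ G W δ) = 0 := by
      rw [psi_sub, map_sub, sub_eq_zero, psi_map, ← Functor.map_comp_apply, ← op_comp,
        ← CategoryTheory.Functor.map_comp, hla, CategoryTheory.Functor.map_comp, op_comp, Functor.map_comp_apply,
        ← eq0, ← omega_eta, ← omega_map, ← omega_map, hloc]
    have hwU : W.hom w ∈ Set.range ι := by
      have := hDU x hx
      rwa [← haw, ← Scheme.Hom.comp_apply, MorphismProperty.Over.w a'] at this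
    obtain ⟨W₁, a₁, w₁, hw₁, h₁⟩ := exists_open_eq_zero G hδ₀ (v := ⟨w, hwU⟩) fun z hz hzs => by
      have hz' : ((EtCoh.bc e).map i).left z ∈ EtShriek.sectSupp G ((EtCoh.bc e).obj W) δ := Supp.supp_map G _ δ hzs
      obtain ⟨y, hy, -⟩ := Scheme.exists_preimage_of_isPullback (isPullback_downB hZ l)
        (((EtCoh.bc e).map i).left z) q'
        ((EtSite.EtaLocal.fst_map e i z).trans (congrArg i.left hz))
      have : y ∈ EtShriek.sectSupp G' _ (G'.obj.map ((EtCoh.bc e').map l).op (psi hZ G W δ)) := by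
        rw [supp_map_psi]
        exact Set.mem_preimage.2 (hy.symm ▸ hz')
      rw [hzero, Supp.supp_zero] at this
      exact this
    refine ⟨W₁, a₁ ≫ i ≫ a', w₁, F.obj.map (a₁ ≫ i).op s₀, ?_, ?_⟩
    · refine ((Scheme.Hom.comp_apply _ _ _).trans ?_).trans haw
      refine (Scheme.Hom.comp_apply _ _ _).trans ?_
      rw [hw₁]
      rfl
    · rw [EtSite.BC.eta_naturality, ← sub_eq_zero, ← h₁]
      simp only [δ₀, δ, map_sub, ← Functor.map_comp_apply, ← op_comp, ← CategoryTheory.Functor.map_comp]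
      rfl
  -- shrink the base
  haveI := Supp.locallyOfFiniteType_prV f V
  have hBad : IsClosed (EtShriek.prV f V '' (D ∩ Goodᶜ)) :=
    Supp.isClosed_image _ (Supp.isProperOver_of_subset _ (hp₂.1.inter hGo.isClosed_compl) Set.inter_subset_left hp₂)
  let OV : V.left.Opens := ⟨(EtShriek.prV f V '' (D ∩ Goodᶜ))ᶜ, hBad.isOpen_compl⟩
  haveI : Etale V.hom := V.prop
  haveI : Etale R''.hom := R''.prop
  let V₁ : Y.Etale := Scheme.Etale.mk (OV.ι ≫ V.hom)
  let iV : V₁ ⟶ V := MorphismProperty.Over.homMk OV.ι rfl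
  have hv : v ∈ OV := fun ⟨x, hx, hxv⟩ => hx.2 (hgood x hx.1 hxv)
  obtain ⟨z₁, -, hz₁⟩ := Scheme.exists_preimage_of_isPullback (EtCoh.isPullback_bc_map g iV).flip
    (⟨v, hv⟩ : OV) (b.left r'') (Scheme.Hom.comp_apply _ _ _)
  obtain ⟨R₁, iR, b₁, r₁, hr₁, -, hRb⟩ := EtSite.exists_common b ((EtCoh.bc g).map iV) r'' z₁ hz₁.symm
  let X₁ := (EtCoh.bc f).obj V₁
  let k : X₁ ⟶ XV := (EtCoh.bc f).map iV
  haveI : Etale X₁.hom := X₁.prop
  let O₁ : X₁.left.Opens := ⟨X₁.hom ⁻¹' Set.range ι, ι.isOpenEmbedding.isOpen_range.preimage X₁.hom.continuous⟩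
  let QO : X.Etale := Scheme.Etale.mk (O₁.ι ≫ X₁.hom)
  let m : QO ⟶ X₁ := MorphismProperty.Over.homMk O₁.ι rfl
  have hrange : ∀ {W : X.Etale} (c : W ⟶ QO), Set.range W.hom ⊆ Set.range ι := by
    rintro W c - ⟨z, rfl⟩
    rw [← MorphismProperty.Over.w c]
    exact (c.left z).2
  -- glue
  let Sv : Sieve QO :=
    { arrows := fun W c => ∃ s₀ : EtCoh.sect F W,
        eta e F W s₀ = G.obj.map ((EtCoh.bc e).map (c ≫ m ≫ k)).op sZ₀
      downward_closed := fun {W W' c} ⟨s₀, hs₀⟩ c' => ⟨F.obj.map c'.op s₀, by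
        rw [EtSite.BC.eta_naturality, hs₀, ← Functor.map_comp_apply, ← op_comp, ← CategoryTheory.Functor.map_comp,
          Category.assoc]⟩ }
  have hcov : Sv ∈ X.smallEtaleTopology QO := by
    refine (EtSite.mem_topology_iff Sv).2 fun x => ?_
    let x' := (m ≫ k).left x
    by_cases hxD : x' ∈ D
    · have hxG : x' ∈ Good := by_contra fun hn => by
        have h1 : EtShriek.prV f V x' ∈ EtShriek.prV f V '' (D ∩ Goodᶜ) := ⟨x', ⟨hxD, hn⟩, rfl⟩
        have h2 : EtShriek.prV f V x' = OV.ι (EtShriek.prV f V₁ (m.left x)) :=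
          (congrArg (EtShriek.prV f V) (Scheme.Hom.comp_apply _ _ _)).trans (EtSite.EtaLocal.fst_map f iV (m.left x))
        rw [h2] at h1
        exact (EtShriek.prV f V₁ (m.left x)).2 h1
      obtain ⟨W, a', w, s₀, hw, hs₀⟩ := hxG
      obtain ⟨W', c, c', w', hc, -, hcc⟩ := EtSite.exists_common (m ≫ k) a' x w hw.symm
      refine ⟨W', c, w', ⟨F.obj.map c'.op s₀, ?_⟩, hc⟩
      rw [EtSite.BC.eta_naturality, ← hs₀, ← Functor.map_comp_apply, ← op_comp, ← CategoryTheory.Functor.map_comp, hcc]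
    · let O₂ : QO.left.Opens := ⟨(m ≫ k).left ⁻¹' Dᶜ, hp₂.1.isOpen_compl.preimage (m ≫ k).left.continuous⟩
      haveI : Etale QO.hom := QO.prop
      let W : X.Etale := Scheme.Etale.mk (O₂.ι ≫ QO.hom)
      let c : W ⟶ QO := MorphismProperty.Over.homMk O₂.ι rfl
      refine ⟨W, c, ⟨x, hxD⟩, ⟨0, ?_⟩, rfl⟩
      rw [map_zero]
      refine (Supp.eq_zero_of_supp G _ fun z hz => ?_).symm
      refine (pullback.fst W.hom e z).2 ⟨_, Supp.supp_map G _ sZ₀ hz, ?_⟩
      exact (EtSite.EtaLocal.fst_map e (c ≫ m ≫ k) z).trans (Scheme.Hom.comp_apply _ _ _)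
  have hF := ((isSheaf_iff_isSheaf_of_type _ _).1
    ((sheafCompose X.smallEtaleTopology (forget AddCommGrpCat.{u + 1})).obj F).property) Sv hcov
  let fam : Presieve.FamilyOfElements (F.obj ⋙ forget AddCommGrpCat.{u + 1}) Sv.arrows := fun W c hc => hc.choose
  have hfam : fam.Compatible := by
    intro W₁ W₂ W₃ g₁ g₂ c₁ c₂ h₁ h₂ e₁
    refine eta_injective_of_range he F W₃ (hrange (g₁ ≫ c₁)) ?_
    show eta e F W₃ (F.obj.map g₁.op h₁.choose) = eta e F W₃ (F.obj.map g₂.op h₂.choose)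
    rw [EtSite.BC.eta_naturality, EtSite.BC.eta_naturality, h₁.choose_spec, h₂.choose_spec,
      ← Functor.map_comp_apply, ← op_comp, ← CategoryTheory.Functor.map_comp,
      ← Functor.map_comp_apply, ← op_comp, ← CategoryTheory.Functor.map_comp, ← Category.assoc, e₁, Category.assoc]
  obtain ⟨s₁, hs₁, -⟩ := hF fam hfam
  have heta₁ : eta e F QO s₁ = G.obj.map ((EtCoh.bc e).map (m ≫ k)).op sZ₀ := by
    refine EtSite.ext_of_locally G fun z => ?_
    obtain ⟨W, c, w, hc, hw⟩ := (EtSite.mem_topology_iff Sv).1 hcov (pullback.fst QO.hom e z)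
    obtain ⟨y, -, hy⟩ := Scheme.exists_preimage_of_isPullback (EtCoh.isPullback_bc_map e c).flip w z hw
    refine ⟨_, (EtCoh.bc e).map c, y, hy, ?_⟩
    rw [← EtSite.BC.eta_naturality, show F.obj.map c.op s₁ = hc.choose from hs₁ c hc, hc.choose_spec,
      ← Functor.map_comp_apply, ← op_comp, ← CategoryTheory.Functor.map_comp]
  let C₁ : Set X₁.left := k.left ⁻¹' D
  have hC₁ : ClSub.IsProperOver (EtShriek.prV f V₁) C₁ :=
    Supp.isProperOver_preimage (EtCoh.isPullback_bc_map f iV) hp₂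
  have hC₁U : ∀ x ∈ C₁, X₁.hom x ∈ Set.range ι := fun x hx => by
    have := hDU _ hx
    rwa [← Scheme.Hom.comp_apply, MorphismProperty.Over.w k] at this
  haveI : IsOpenImmersion m.left := inferInstanceAs (IsOpenImmersion O₁.ι)
  obtain ⟨s, hsm, hsC⟩ := Supp.exists_glue_zero F m s₁ hC₁.1
    (fun x hx => ⟨⟨x, hC₁U x hx⟩, rfl⟩) (fun x hx => by
      haveI := (isProper_of_range he (IsPullback.of_hasPullback QO.hom e) (hrange (𝟙 QO))).2
      obtain ⟨z, rfl⟩ := (pullback.fst QO.hom e).surjective x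
      have hz : z ∈ EtShriek.sectSupp G _ (eta e F QO s₁) := by
        rw [supp_eta]
        exact hx
      rw [heta₁] at hz
      refine ⟨_, Supp.supp_map G _ sZ₀ hz, ?_⟩
      exact (EtSite.EtaLocal.fst_map e (m ≫ k) z).trans (Scheme.Hom.comp_apply _ _ _))
  have heta : eta e F X₁ s = G.obj.map ((EtCoh.bc e).map k).op sZ₀ := by
    refine EtSite.ext_of_locally G fun z => ?_
    have hz : X₁.hom (pullback.fst X₁.hom e z) ∈ Set.range ι := hom_fst_mem he X₁.hom z
    obtain ⟨y, -, hy⟩ := Scheme.exists_preimage_of_isPullback (EtCoh.isPullback_bc_map e m).flip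
      (⟨_, hz⟩ : O₁) z rfl
    refine ⟨_, (EtCoh.bc e).map m, y, hy, ?_⟩
    rw [← EtSite.BC.eta_naturality, hsm, heta₁, ← Functor.map_comp_apply, ← op_comp,
      ← CategoryTheory.Functor.map_comp]
  refine ⟨V₁, s, R₁, iR ≫ a, b₁, r₁, ?_, Supp.isProperOver_of_subset _ (Supp.isClosed_supp F s) hsC hC₁, ?_⟩
  · exact (Scheme.Hom.comp_apply _ _ _).trans ((congrArg a.left hr₁).trans hr)
  refine sub_eq_zero.1 (Supp.eq_zero_of_supp F' _ fun u hu => ?_)
  by_cases hU : g' (((EtCoh.bc f').obj R₁).hom u) ∈ Set.range ι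
  · obtain ⟨z₀, hz₀⟩ := hU
    obtain ⟨z₀', hz₀'⟩ := π.surjective z₀
    obtain ⟨z', -, hz'⟩ := Scheme.exists_preimage_of_isPullback hZ z₀' (((EtCoh.bc f').obj R₁).hom u) (by
      rw [he, Scheme.Hom.comp_apply, hz₀', hz₀])
    obtain ⟨y, hy, -⟩ := Scheme.Pullback.exists_preimage_pullback (f := ((EtCoh.bc f').obj R₁).hom) (g := e') u z'
      hz'.symm
    have hy' : y ∈ EtShriek.sectSupp G' _ ((omega hZ F).hom.app (op ((EtCoh.bc f').obj R₁))
        (F'.obj.map ((EtCoh.bc f').map (iR ≫ a)).op t - F'.obj.map ((EtCoh.bc f').map b₁).op (psi h F V₁ s))) := by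
      rw [supp_omega]
      exact Set.mem_preimage.2 (hy.symm ▸ hu)
    have e₁ : (omega hZ F).hom.app (op ((EtCoh.bc f').obj R₁)) (F'.obj.map ((EtCoh.bc f').map (iR ≫ a)).op t) =
        G'.obj.map ((EtCoh.bc e').map ((EtCoh.bc f').map iR ≫ M)).op (psi hZ G XV sZ₀) := by
      rw [CategoryTheory.Functor.map_comp, op_comp, Functor.map_comp_apply, omega_map, eq0,
        ← Functor.map_comp_apply, ← op_comp, ← CategoryTheory.Functor.map_comp]
    have e₂ : (omega hZ F).hom.app (op ((EtCoh.bc f').obj R₁))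
        (F'.obj.map ((EtCoh.bc f').map b₁).op (psi h F V₁ s)) =
        G'.obj.map ((EtCoh.bc e').map ((EtCoh.bc f').map iR ≫ M)).op (psi hZ G XV sZ₀) := by
      rw [psi, ← Functor.map_comp_apply, ← op_comp, omega_map, omega_eta, heta, psi_map,
        ← Functor.map_comp_apply, ← op_comp, ← CategoryTheory.Functor.map_comp]
      refine congrArg (fun z => G'.obj.map ((EtCoh.bc e').map z).op (psi hZ G XV sZ₀)) ?_
      rw [Category.assoc, ← swap_naturality h iV, ← Category.assoc, ← CategoryTheory.Functor.map_comp, ← hRb,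
        CategoryTheory.Functor.map_comp, Category.assoc]
    rw [map_sub, e₁, e₂, sub_self] at hy'
    exact (Supp.supp_zero G' (U := (EtCoh.bc e').obj ((EtCoh.bc f').obj R₁))).subset hy'
  · rcases supp_sub F' _ _ hu with hu | hu
    · rw [Supp.supp_map_eq] at hu
      have := hsupp _ hu
      have e₃ : ((EtCoh.bc f').obj R).hom (((EtCoh.bc f').map (iR ≫ a)).left u) = ((EtCoh.bc f').obj R₁).hom u :=
        (Scheme.Hom.comp_apply _ _ _).symm.trans
          (congrArg (fun z : ((EtCoh.bc f').obj R₁).left ⟶ X' => z u)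
            (MorphismProperty.Over.w ((EtCoh.bc f').map (iR ≫ a))))
      rw [e₃] at this
      exact hU this
    · rw [supp_map_psi] at hu
      have hx : X₁.hom (downB h b₁ u) ∈ Set.range ι := hC₁U _ (hsC hu)
      refine hU ?_
      have e₃ : downB h b₁ ≫ X₁.hom = ((EtCoh.bc f').obj R₁).hom ≫ g' :=
        (Category.assoc _ _ _).trans ((congrArg (_ ≫ ·) (down_snd h V₁)).trans ((Category.assoc _ _ _).symm.trans
          (congrArg (· ≫ g') (MorphismProperty.Over.w ((EtCoh.bc f').map b₁)))))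
      rw [← Scheme.Hom.comp_apply, e₃, Scheme.Hom.comp_apply] at hx
      exact hx

end Proper

end Groth.L27.ShriekBC
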