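import Groth.Agent.L27.ShriekBC.Basic
import Groth.Agent.L27.ShriekBC.Descend
import Groth.Agent.S7409
import Groth.Agent.L02.An.Fib
import Groth.Agent.L16.ProjSpace.Basic

/-! # Base change for direct images with proper support -/

universe u

open CategoryTheory CategoryTheory.Limits AlgebraicGeometry Opposite

set_option backward.isDefEq.respectTransparency.types false
set_option linter.style.haveILetI false
set_option linter.unusedSectionVars false
set_option linter.unusedVariables false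

namespace Groth.L27.ShriekBC

open EtSite.BC (P eta swap psi)

variable {X Y X' Y' : Scheme.{u}} {f : X ⟶ Y} {g : Y' ⟶ Y} {f' : X' ⟶ Y'} {g' : X' ⟶ X}

theorem surjAt_of_restrict (h : IsPullback g' f' f g) (F : EtCoh.Ab X) {R R₁ : Y'.Etale} (a₀ : R₁ ⟶ R)
    (t : EtCoh.sect (P g' F) ((EtCoh.bc f').obj R)) (r₁ : R₁.left)
    (h₁ : SurjAt h F R₁ ((P g' F).obj.map ((EtCoh.bc f').map a₀).op t) r₁) : SurjAt h F R t (a₀.left r₁) := by
  obtain ⟨V, s, R', a, b, r', hr, hs, he⟩ := h₁
  refine ⟨V, s, R', a ≫ a₀, b, r', (Scheme.Hom.comp_apply _ _ _).trans (congrArg a₀.left hr), hs, ?_⟩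
  rw [CategoryTheory.Functor.map_comp, op_comp, Functor.map_comp_apply]
  exact he

/-- Every separated morphism locally of finite type has the lifting property. -/
theorem surj_of_isSeparated {X Y : Scheme.{u}} (f : X ⟶ Y) [IsSeparated f] [LocallyOfFiniteType f] : Surj f := by
  intro X' Y' g f' g' h F R t ht r
  haveI : LocallyOfFiniteType f' := MorphismProperty.of_isPullback h inferInstance
  obtain ⟨_, ⟨(V₀ : Y.Opens), hV₀, rfl⟩, hy, -⟩ :=
    Y.isBasis_affineOpens.exists_subset_of_mem_open (Set.mem_univ ((R.hom ≫ g) r)) isOpen_univ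
  obtain ⟨_, ⟨A, hA, rfl⟩, hrA, hAV⟩ :=
    R.left.isBasis_affineOpens.exists_subset_of_mem_open (show r ∈ (R.hom ≫ g) ⁻¹ᵁ V₀ from hy)
      ((R.hom ≫ g) ⁻¹ᵁ V₀).2
  haveI : Etale R.hom := R.prop
  let RA : Y'.Etale := Scheme.Etale.mk (Scheme.Opens.ι A ≫ R.hom)
  let a₀ : RA ⟶ R := MorphismProperty.Over.homMk (Scheme.Opens.ι A) rfl
  refine surjAt_of_restrict h F a₀ t (⟨r, hrA⟩ : A) ?_
  haveI : CompactSpace RA.left := isCompact_iff_compactSpace.1 hA.isCompact
  set t₁ := (P g' F).obj.map ((EtCoh.bc f').map a₀).op t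
  have ht₁ : Supp.IsProperSect f' (P g' F) t₁ := Supp.isProperSect_map f' (P g' F) a₀ ht
  let m : ((EtCoh.bc f').obj RA).left ⟶ X := ((EtCoh.bc f').obj RA).hom ≫ g'
  let K := m '' EtShriek.sectSupp (P g' F) ((EtCoh.bc f').obj RA) t₁
  have hKc : IsCompact K := (Supp.isCompact_of_isProperOver ht₁).image m.continuous
  have hKV : K ⊆ f ⁻¹ᵁ V₀ := by
    rintro - ⟨u, -, rfl⟩
    have e : m ≫ f = EtShriek.prV f' RA ≫ a₀.left ≫ R.hom ≫ g := by
      refine (Category.assoc _ _ _).trans ((congrArg (_ ≫ ·) h.w).trans ?_)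
      refine (Category.assoc _ _ _).symm.trans ((congrArg (· ≫ g) pullback.condition.symm).trans ?_)
      exact (Category.assoc _ _ _).trans (congrArg (_ ≫ ·) (Category.assoc _ _ _))
    show f (m u) ∈ V₀
    rw [← Scheme.Hom.comp_apply, e, Scheme.Hom.comp_apply, Scheme.Hom.comp_apply]
    exact hAV (EtShriek.prV f' RA u).2
  let W := f ⁻¹ᵁ V₀
  have hKW : W.ι '' (W.ι ⁻¹' K) = K :=
    Set.image_preimage_eq_of_subset (hKV.trans (Scheme.Opens.range_ι W).symm.subset)
  obtain ⟨U', hU'c, hKU'⟩ := Supp.exists_qc_open (U := W.toScheme) (C := W.ι ⁻¹' K)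
    (W.ι.isOpenEmbedding.isInducing.isCompact_iff.2 (by rw [hKW]; exact hKc))
  let U : X.Opens := W.ι ''ᵁ U'
  have hUc : IsCompact (U : Set X) := hU'c.image W.ι.continuous
  have hKU : K ⊆ (U : Set X) := hKW.symm.subset.trans (Set.image_mono hKU')
  have hle : U ≤ f ⁻¹ᵁ V₀ := by
    rintro - ⟨x, -, rfl⟩
    exact x.2
  let f₀ := f.resLE V₀ U hle
  have hf₀ : f₀ ≫ (Scheme.Opens.ι V₀) = U.ι ≫ f := Scheme.Hom.resLE_comp_ι f hle
  haveI : CompactSpace U := isCompact_iff_compactSpace.1 hUc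
  haveI : IsAffine V₀ := hV₀
  haveI : IsSeparated (f₀ ≫ (Scheme.Opens.ι V₀)) := by rw [hf₀]; infer_instance
  haveI : IsSeparated f₀ := IsSeparated.of_comp f₀ (Scheme.Opens.ι V₀)
  haveI : LocallyOfFiniteType (f₀ ≫ (Scheme.Opens.ι V₀)) := by rw [hf₀]; infer_instance
  haveI : LocallyOfFiniteType f₀ := locallyOfFiniteType_of_comp f₀ (Scheme.Opens.ι V₀)
  haveI : QuasiCompact f₀ := quasiCompact_of_compactSpace f₀
  obtain ⟨n, Z, π, j, hj, hjπ, hπ, hπs⟩ := Groth.Agent.S7409.result f₀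
  haveI := hj; haveI := hπ; haveI := hπs
  obtain ⟨μ, hμ⟩ := Groth.L02.An.isPullback_projSpaceOver (Scheme.Opens.ι V₀) n
  haveI : IsOpenImmersion μ := MorphismProperty.of_isPullback (P := @IsOpenImmersion) hμ.flip inferInstance
  have hs : Surj ((π ≫ U.ι) ≫ f) := by
    have e : (j ≫ μ) ≫ CohB1.ProjSpaceOver.toBase n Y = (π ≫ U.ι) ≫ f := by
      rw [Category.assoc, hμ.w, ← Category.assoc, hjπ, Category.assoc, hf₀, ← Category.assoc]
    rw [← e]
    exact surj_immersion_comp (j ≫ μ) (CohB1.ProjSpaceOver.toBase n Y)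
  refine surjAt_descend (π := π) (ι := U.ι) rfl F h hs RA t₁ ht₁ (fun u hu => ?_) _
  rw [Scheme.Opens.range_ι]
  refine hKU ⟨u, hu, ?_⟩
  exact Scheme.Hom.comp_apply _ _ _

variable [LocallyOfFiniteType f] [LocallyOfFiniteType f'] (h : IsPullback g' f' f g) (F : EtCoh.Ab X)

/-- Base change for direct images with proper support, on sheaves of sections with proper support. -/
theorem isIso_theta' [IsSeparated f] : IsIso (theta h F) :=
  isIso_theta_of_surj h F (surj_of_isSeparated f)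

/-- The inclusion into the direct image. -/
noncomputable def incl : Supp.shriekSheaf f F ⟶ (EtCoh.push f).obj F := ⟨EtShriek.lowerShriekPreι f F⟩

theorem shriekFunctorIso_hom_toPush :
    (Supp.shriekFunctorIso f).hom.app F ≫ EtShriek.lowerShriekToPush f F = incl F :=
  ObjectProperty.hom_ext _ (Supp.toSheafify_comp_lowerShriekToPush f F)

theorem theta_incl :
    theta h F ≫ incl (P g' F) = (EtCoh.pull g).map (incl F) ≫ EtCoh.baseChange0 f g f' g' h.w F := by
  refine ((EtCoh.pullPushAdj g).homEquiv _ _).injective ?_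
  refine (Adjunction.homEquiv_naturality_right _ _ _).trans (Eq.trans ?_ (Adjunction.homEquiv_naturality_left _ _ _).symm)
  rw [theta, Equiv.apply_symm_apply]
  rfl

/-- Base change for direct images with proper support. -/
noncomputable def bcIso [IsSeparated f] :
    (EtCoh.pull g).obj ((EtShriek.lowerShriek f).obj F) ≅ (EtShriek.lowerShriek f').obj ((EtCoh.pull g').obj F) :=
  (EtCoh.pull g).mapIso ((Supp.shriekFunctorIso f).app F).symm ≪≫
    @asIso _ _ _ _ (theta h F) (isIso_theta' h F) ≪≫ (Supp.shriekFunctorIso f').app _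

theorem bcIso_toPush [IsSeparated f] :
    (bcIso h F).hom ≫ EtShriek.lowerShriekToPush f' ((EtCoh.pull g').obj F) =
      (EtCoh.pull g).map (EtShriek.lowerShriekToPush f F) ≫ EtCoh.baseChange0 f g f' g' h.w F := by
  have e₁ : (Supp.shriekFunctorIso f).inv.app F ≫ incl F = EtShriek.lowerShriekToPush f F := by
    rw [← shriekFunctorIso_hom_toPush, Iso.inv_hom_id_app_assoc]
  show ((EtCoh.pull g).map ((Supp.shriekFunctorIso f).inv.app F) ≫ theta h F ≫
    (Supp.shriekFunctorIso f').hom.app ((EtCoh.pull g').obj F)) ≫ _ = _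
  refine (Category.assoc _ _ _).trans ?_
  refine (congrArg ((EtCoh.pull g).map ((Supp.shriekFunctorIso f).inv.app F) ≫ ·) ((Category.assoc _ _ _).trans
    ((congrArg (theta h F ≫ ·) (shriekFunctorIso_hom_toPush (f := f') ((EtCoh.pull g').obj F))).trans
      (theta_incl h F)))).trans ?_
  rw [← e₁]
  exact (Category.assoc _ _ _).symm.trans (congrArg (· ≫ _) (CategoryTheory.Functor.map_comp _ _ _).symm)

end Groth.L27.ShriekBC
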