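import Groth.Agent.L27.ShriekBC.Main
import Groth.Agent.L27.EtSite.Pull

/-! # Stalks of direct images with proper support -/

universe u

open CategoryTheory CategoryTheory.Limits AlgebraicGeometry Opposite

set_option backward.isDefEq.respectTransparency.types false
set_option linter.style.haveILetI false
set_option linter.unusedSectionVars false
set_option linter.unusedVariables false

namespace Groth.L27.ShriekBC

variable {Ω : Type u} [Field Ω] [IsSepClosed Ω]

/-- The tautological point. -/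
noncomputable abbrev idPt :
    (Scheme.pointSmallEtale (𝟙 (Spec (CommRingCat.of Ω)))).fiber.obj (EtCoh.top (Spec (CommRingCat.of Ω))) :=
  Over.homMk (𝟙 _) (Category.comp_id _)

theorem bijective_germ_id (P : (Spec (CommRingCat.of Ω)).Etaleᵒᵖ ⥤ AddCommGrpCat.{u + 1}) :
    Function.Bijective ((Scheme.pointSmallEtale (𝟙 (Spec (CommRingCat.of Ω)))).toPresheafFiber
      (EtCoh.top (Spec (CommRingCat.of Ω))) idPt P) := by
  let Φ := Scheme.pointSmallEtale (𝟙 (Spec (CommRingCat.of Ω)))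
  have hsec : ∀ (U : (Spec (CommRingCat.of Ω)).Etale) (y : Φ.fiber.obj U),
      ∃ σ : EtCoh.top (Spec (CommRingCat.of Ω)) ⟶ U, Φ.fiber.map σ idPt = y := fun U y =>
    ⟨MorphismProperty.Over.homMk y.left (Over.w y), Over.OverMorphism.ext (Category.id_comp _)⟩
  refine ⟨fun z₁ z₂ e => ?_, fun p => ?_⟩
  · obtain ⟨U, a, y, -, ha⟩ := (Φ.toPresheafFiber_eq_iff' _ _ _ _).1 e
    obtain ⟨σ, -⟩ := hsec U y
    have e₁ : σ ≫ a = 𝟙 _ :=
      MorphismProperty.Over.Hom.ext ((Category.comp_id _).symm.trans (MorphismProperty.Over.w (σ ≫ a)))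
    have e₂ := congrArg (P.map σ.op) ha
    rwa [← Functor.map_comp_apply, ← Functor.map_comp_apply, ← op_comp, e₁, op_id, CategoryTheory.Functor.map_id,
      ConcreteCategory.id_apply, ConcreteCategory.id_apply] at e₂
  · obtain ⟨U, y, s, rfl⟩ := Φ.toPresheafFiber_jointly_surjective p
    obtain ⟨σ, hσ⟩ := hsec U y
    exact ⟨P.map σ.op s, by rw [GrothendieckTopology.Point.toPresheafFiber_w_apply, hσ]⟩

variable {X : Scheme.{u}} (p : X ⟶ Spec (CommRingCat.of Ω)) [LocallyOfFiniteType p] (F : EtCoh.Ab X)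

theorem mem_H0c_iff (s : EtCoh.sect F (EtCoh.top X)) :
    s ∈ EtShriek.H0c p F ↔ ClSub.IsProperOver p (EtShriek.sectSupp F (EtCoh.top X) s) := by
  refine ⟨fun h => ?_, fun h => AddSubgroup.subset_closure ((Supp.hasProperSupport_iff F s p).2 h)⟩
  refine AddSubgroup.closure_induction
    (p := fun x _ => ClSub.IsProperOver p (EtShriek.sectSupp F (EtCoh.top X) x))
    (fun x hx => (Supp.hasProperSupport_iff F x p).1 hx) ?_ (fun x y _ _ hx hy => ?_) (fun x _ hx => ?_) h
  · haveI : LocallyOfFiniteType (p : (EtCoh.top X).left ⟶ _) := ‹_›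
    rw [Supp.supp_zero]
    exact Supp.isProperOver_empty _
  · exact Supp.isProperOver_of_subset _ (Supp.isClosed_supp F _) (Supp.supp_add F x y) (Supp.isProperOver_union _ hx hy)
  · exact Supp.isProperOver_of_subset _ (Supp.isClosed_supp F _) (Supp.supp_neg F x) hx

/-- Sections with proper support over the point are the compactly supported ones. -/
theorem nonempty_shriek_top_iso :
    Nonempty (AddCommGrpCat.of (EtShriek.shriekSubgroup p F (EtCoh.top (Spec (CommRingCat.of Ω)))) ≅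
      AddCommGrpCat.of (EtShriek.H0c p F)) := by
  let T := EtCoh.top (Spec (CommRingCat.of Ω))
  let inv' : X ⟶ ((EtCoh.bc p).obj T).left :=
    pullback.lift p (𝟙 X) ((Category.comp_id p).trans (Category.id_comp p).symm)
  let ι : EtCoh.top X ⟶ (EtCoh.bc p).obj T := MorphismProperty.Over.homMk inv' (pullback.lift_snd _ _ _)
  let κ : (EtCoh.bc p).obj T ⟶ EtCoh.top X :=
    MorphismProperty.Over.homMk ((EtCoh.bc p).obj T).hom (Category.comp_id _)
  have hικ : ι ≫ κ = 𝟙 _ := MorphismProperty.Over.Hom.ext (pullback.lift_snd _ _ _)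
  have hκι : κ ≫ ι = 𝟙 _ := MorphismProperty.Over.Hom.ext (pullback.hom_ext
    ((Category.assoc _ _ _).trans ((congrArg (_ ≫ ·) (pullback.lift_fst _ _ _)).trans
      (pullback.condition.symm.trans ((Category.comp_id _).trans (Category.id_comp _).symm))))
    ((Category.assoc _ _ _).trans ((congrArg (_ ≫ ·) (pullback.lift_snd _ _ _)).trans
      ((Category.comp_id _).trans (Category.id_comp _).symm))))
  haveI : IsIso ι := ⟨κ, hικ, hκι⟩
  haveI : IsIso ι.left := ⟨κ.left, congrArg (fun z => z.left) hικ, congrArg (fun z => z.left) hκι⟩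
  haveI : IsIso κ.left := ⟨ι.left, congrArg (fun z => z.left) hκι, congrArg (fun z => z.left) hικ⟩
  haveI : IsIso (𝟙 (Spec (CommRingCat.of Ω))) := IsIso.id _
  haveI : IsIso (𝟙 T.left) := IsIso.id _
  have sq₁ : IsPullback ι.left p (EtShriek.prV p T) (𝟙 T.left) :=
    @IsPullback.of_horiz_isIso _ _ _ _ _ _ _ _ _ _ _ (IsIso.id T.left) ⟨(pullback.lift_fst _ _ _).trans (Category.comp_id _).symm⟩
  have sq₂ : IsPullback κ.left (EtShriek.prV p T) p (𝟙 T.left) :=
    @IsPullback.of_horiz_isIso _ _ _ _ _ _ _ _ _ _ _ (IsIso.id T.left) ⟨pullback.condition.symm⟩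
  let e := F.obj.map ι.op
  have he : Function.Bijective e := (ConcreteCategory.isIso_iff_bijective _).1 inferInstance
  have key : ∀ s, e s ∈ EtShriek.H0c p F ↔ s ∈ EtShriek.shriekSubgroup p F T := fun s => by
    rw [mem_H0c_iff, Supp.mem_shriekSubgroup_iff, Supp.supp_map_eq]
    refine ⟨fun hh => ?_, fun hh => Supp.isProperOver_preimage sq₁ hh⟩
    have h' := Supp.isProperOver_preimage sq₂ hh
    rw [← Set.preimage_comp, ← TopCat.coe_comp, ← Scheme.Hom.comp_base,
      show κ.left ≫ ι.left = 𝟙 _ from congrArg (fun z => z.left) hκι] at h'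
    exact h'
  let φ : EtShriek.shriekSubgroup p F T →+ EtShriek.H0c p F :=
    AddMonoidHom.mk' (fun s => ⟨e s.1, (key s.1).2 s.2⟩) fun s t => Subtype.ext (map_add e.hom s.1 t.1)
  refine ⟨(AddEquiv.ofBijective φ ⟨fun s t hst => Subtype.ext (he.1 (congrArg Subtype.val hst)), fun s => ?_⟩).toAddCommGrpIso⟩
  obtain ⟨t, ht⟩ := he.2 s.1
  exact ⟨⟨t, (key t).1 (ht ▸ s.2)⟩, Subtype.ext ht⟩

/-- Stalks of direct images with proper support are compactly supported sections of the fibres. -/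
theorem nonempty_stalk_iso {X Y X' : Scheme.{u}} (f : X ⟶ Y) [IsSeparated f] [LocallyOfFiniteType f]
    (η : Spec (CommRingCat.of Ω) ⟶ Y) (f' : X' ⟶ Spec (CommRingCat.of Ω)) (g' : X' ⟶ X)
    (h : IsPullback g' f' f η) (F : EtCoh.Ab X) :
    Nonempty ((EtCoh.stalk η).obj ((EtShriek.lowerShriek f).obj F) ≅
      AddCommGrpCat.of (EtShriek.H0c f' ((EtCoh.pull g').obj F))) := by
  haveI : LocallyOfFiniteType f' := MorphismProperty.of_isPullback h inferInstance
  obtain ⟨e₂⟩ := nonempty_shriek_top_iso f' ((EtCoh.pull g').obj F)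
  let G := Supp.shriekSheaf f' ((EtCoh.pull g').obj F)
  haveI := (ConcreteCategory.isIso_iff_bijective _).2 (bijective_germ_id (Ω := Ω) G.obj)
  refine ⟨eqToIso (congrArg (fun ξ => (EtCoh.stalk ξ).obj ((EtShriek.lowerShriek f).obj F)) (Category.id_comp η).symm) ≪≫
    ((EtSite.stalkPullIso η (𝟙 _)).app _).symm ≪≫
    (EtCoh.stalk (𝟙 _)).mapIso (bcIso h F ≪≫ ((Supp.shriekFunctorIso f').app ((EtCoh.pull g').obj F)).symm) ≪≫
    (asIso ((Scheme.pointSmallEtale (𝟙 (Spec (CommRingCat.of Ω)))).toPresheafFiber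
      (EtCoh.top (Spec (CommRingCat.of Ω))) idPt G.obj)).symm ≪≫ e₂⟩

end Groth.L27.ShriekBC
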