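import Groth.Agent.L27.ShriekBC.Comp
import Groth.Agent.L27.ExtZero.ShriekProper
import Groth.Agent.L27.BigSets.ProperBC
import Mathlib.AlgebraicGeometry.Morphisms.Immersion

/-! # Lifting sections with proper support: proper morphisms and immersions -/

universe u

open CategoryTheory CategoryTheory.Limits AlgebraicGeometry Opposite

set_option backward.isDefEq.respectTransparency.types false
set_option linter.style.haveILetI false
set_option linter.unusedSectionVars false
set_option linter.unusedVariables false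

namespace Groth.L27.ShriekBC

open EtSite.BC (P eta swap psi)

theorem surj_of_isProper {X Y : Scheme.{u}} (f : X ⟶ Y) [IsProper f] : Surj f := by
  intro X' Y' g f' g' h F R t ht r
  obtain ⟨Ω, _, _, ξ, hξ⟩ := EtSite.exists_geometric_point r
  let rp : (Scheme.pointSmallEtale (ξ ≫ R.hom)).fiber.obj R := Over.homMk ξ rfl
  obtain ⟨V, y, s, R', r', a, b, ha, -, he⟩ :=
    EtSite.BC.exists_psi_eq h F R rp t (BigSets.exists_global h F R rp t)
  refine ⟨V, s, R', a, b, r'.left (default : Spec (CommRingCat.of Ω)), ?_, Supp.isProperSect_of_isProper f F s, he⟩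
  refine Eq.trans ?_ hξ
  exact (Scheme.Hom.comp_apply _ _ _).symm.trans
    (congrArg (fun z : (Scheme.pointSmallEtale (ξ ≫ R.hom)).fiber.obj R => z.left (default : Spec (CommRingCat.of Ω))) ha)

/-- The map to the final object. -/
noncomputable def toTop {Y Y' : Scheme.{u}} (g : Y' ⟶ Y) (R : Y'.Etale) : R ⟶ (EtCoh.bc g).obj (EtCoh.top Y) :=
  MorphismProperty.Over.homMk (pullback.lift (R.hom ≫ g) R.hom (Category.comp_id _)) (pullback.lift_snd _ _ _)

theorem surjAt_of_zero {X Y X' Y' : Scheme.{u}} {f : X ⟶ Y} {g : Y' ⟶ Y} {f' : X' ⟶ Y'} {g' : X' ⟶ X}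
    (h : IsPullback g' f' f g) [LocallyOfFiniteType f] [LocallyOfFiniteType f'] (F : EtCoh.Ab X) {R : Y'.Etale}
    {t : EtCoh.sect (P g' F) ((EtCoh.bc f').obj R)} (ht : Supp.IsProperSect f' (P g' F) t) {r : R.left}
    (hr : ∀ x, EtShriek.prV f' R x = r → x ∉ EtShriek.sectSupp (P g' F) ((EtCoh.bc f').obj R) t) :
    SurjAt h F R t r := by
  obtain ⟨W, a, w, hw, h0⟩ := exists_open_eq_zero (P g' F) ht hr
  refine ⟨EtCoh.top Y, 0, W, a, toTop g W, w, hw, ?_, ?_⟩
  · show ClSub.IsProperOver _ _
    haveI := Supp.locallyOfFiniteType_prV f (EtCoh.top Y)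
    rw [Supp.supp_zero]
    exact Supp.isProperOver_empty _
  · rw [h0, psi_zero, map_zero]

theorem surj_of_isOpenImmersion {X Y : Scheme.{u}} (o : X ⟶ Y) [IsOpenImmersion o] : Surj o := by
  intro X' Y' g o' g' h F R t ht r
  haveI : IsOpenImmersion o' := MorphismProperty.of_isPullback (P := @IsOpenImmersion) h inferInstance
  by_cases hu : ∀ x, EtShriek.prV o' R x = r → x ∉ EtShriek.sectSupp (P g' F) ((EtCoh.bc o').obj R) t
  · exact surjAt_of_zero h F ht hu
  simp only [not_forall, not_not] at hu
  obtain ⟨u, hur, -⟩ := hu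
  obtain ⟨W, aW, Q', d, e, q', s₁, hd, -, heq⟩ := EtSite.EtaLocal.exists_local g' F
    ((EtCoh.bc o').map (toTop g R) ≫ swap h.w (EtCoh.top Y)) t u
  let V : Y.Etale := (EtShriek.compEtale o).obj W
  let k : (EtCoh.bc o).obj V ⟶ W := MorphismProperty.Over.homMk (EtShriek.prV o V)
    ((cancel_mono o).1 ((Category.assoc _ _ _).trans pullback.condition))
  haveI : IsIso (EtShriek.prV o V) := by
    refine ⟨pullback.lift (𝟙 _) W.hom (Category.id_comp _), pullback.hom_ext ?_ ?_, pullback.lift_fst _ _ _⟩
    · exact (Category.assoc _ _ _).trans ((congrArg (_ ≫ ·) (pullback.lift_fst _ _ _)).trans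
        ((Category.comp_id _).trans (Category.id_comp _).symm))
    · refine (Category.assoc _ _ _).trans ((congrArg (_ ≫ ·) (pullback.lift_snd _ _ _)).trans ?_)
      exact ((cancel_mono o).1 ((Category.assoc _ _ _).trans pullback.condition)).trans (Category.id_comp _).symm
  let R' : Y'.Etale := (EtShriek.compEtale o').obj Q'
  have hdw : d.left ≫ pullback.snd R.hom o' = Q'.hom := MorphismProperty.Over.w d
  have hew : e.left ≫ pullback.snd W.hom g' = Q'.hom := MorphismProperty.Over.w e
  let a : R' ⟶ R := MorphismProperty.Over.homMk (d.left ≫ EtShriek.prV o' R)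
    ((Category.assoc _ _ _).trans ((congrArg (d.left ≫ ·) pullback.condition).trans
      ((Category.assoc _ _ _).symm.trans (congrArg (· ≫ o') hdw))))
  let b : R' ⟶ (EtCoh.bc g).obj V := MorphismProperty.Over.homMk
    (pullback.lift (e.left ≫ pullback.fst W.hom g') (Q'.hom ≫ o')
      (by
        show (e.left ≫ pullback.fst W.hom g') ≫ W.hom ≫ o = (Q'.hom ≫ o') ≫ g
        calc (e.left ≫ pullback.fst W.hom g') ≫ W.hom ≫ o
            = ((e.left ≫ pullback.snd W.hom g') ≫ g') ≫ o := by
              refine (Category.assoc _ _ _).trans ((congrArg (e.left ≫ ·) ((Category.assoc _ _ _).symm.trans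
                ((congrArg (· ≫ o) pullback.condition).trans (Category.assoc _ _ _)))).trans ?_)
              exact (Category.assoc _ _ _).symm.trans (Category.assoc _ _ _).symm
          _ = (Q'.hom ≫ g') ≫ o := congrArg (fun z => (z ≫ g') ≫ o) hew
          _ = _ := by simp only [Category.assoc, h.w]))
    (pullback.lift_snd _ _ _)
  let k' : (EtCoh.bc o').obj R' ⟶ Q' := MorphismProperty.Over.homMk (EtShriek.prV o' R')
    ((cancel_mono o').1 ((Category.assoc _ _ _).trans pullback.condition))
  have ea : (EtCoh.bc o').map a = k' ≫ d := by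
    refine MorphismProperty.Over.Hom.ext (pullback.hom_ext ?_ ?_)
    · exact (EtCoh.isPullback_bc_map o' a).w.trans (Category.assoc _ _ _).symm
    · exact (MorphismProperty.Over.w ((EtCoh.bc o').map a)).trans (MorphismProperty.Over.w (k' ≫ d)).symm
  have eb : (EtCoh.bc o').map b ≫ swap h.w V ≫ (EtCoh.bc g').map k = k' ≫ e := by
    refine MorphismProperty.Over.Hom.ext (pullback.hom_ext ?_ ?_)
    · have e1 := (EtCoh.isPullback_bc_map g' k).w
      have e2 := down_fst h V
      have e3 := (EtCoh.isPullback_bc_map o' b).w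
      refine (Category.assoc _ _ _).trans ((congrArg (_ ≫ ·) ((Category.assoc _ _ _).trans
        ((congrArg (_ ≫ ·) e1).trans (Category.assoc _ _ _).symm))).trans ?_)
      refine (congrArg (_ ≫ ·) e2).trans ?_
      refine (Category.assoc _ _ _).symm.trans ((congrArg (· ≫ _) e3).trans ((Category.assoc _ _ _).trans ?_))
      exact (congrArg (_ ≫ ·) (pullback.lift_fst _ _ _)).trans (Category.assoc _ _ _).symm
    · exact (MorphismProperty.Over.w ((EtCoh.bc o').map b ≫ swap h.w V ≫ (EtCoh.bc g').map k)).trans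
        (MorphismProperty.Over.w (k' ≫ e)).symm
  refine ⟨V, F.obj.map k.op s₁, R', a, b, q', ?_, ?_, ?_⟩
  · exact (Scheme.Hom.comp_apply _ _ _).trans ((congrArg _ hd).trans hur)
  · refine ⟨Supp.isClosed_supp F _, ?_⟩
    show IsProper ((Scheme.IdealSheafData.vanishingIdeal _).subschemeι ≫ EtShriek.prV o V)
    infer_instance
  · rw [psi, EtSite.BC.eta_naturality, ← Functor.map_comp_apply, ← op_comp, ← Functor.map_comp_apply, ← op_comp,
      ea, op_comp, Functor.map_comp_apply, heq, ← Functor.map_comp_apply, ← op_comp, Category.assoc, eb]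

/-- Lifting along an immersion followed by a proper morphism. -/
theorem surj_immersion_comp {X Q Y : Scheme.{u}} (j : X ⟶ Q) [IsImmersion j] (q : Q ⟶ Y) [IsProper q] :
    Surj (j ≫ q) := by
  rw [← j.liftCoborder_ι, Category.assoc]
  exact surj_comp j.liftCoborder (j.coborderRange.ι ≫ q) (surj_of_isProper _)
    (surj_comp j.coborderRange.ι q (surj_of_isOpenImmersion _) (surj_of_isProper q))

end Groth.L27.ShriekBC
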