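import Groth.Agent.L27.ShriekBC.Theta

/-! # Lifting sections with proper support along compositions -/

universe u

open CategoryTheory CategoryTheory.Limits AlgebraicGeometry Opposite

set_option backward.isDefEq.respectTransparency.types false
set_option linter.style.haveILetI false
set_option linter.unusedSectionVars false
set_option linter.unusedVariables false

namespace Groth.L27.ShriekBC

open EtSite.BC (P eta swap psi)

/-- Sections with proper support on any base change come, etale locally, from downstairs. -/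
def Surj {X Y : Scheme.{u}} (f : X ⟶ Y) : Prop :=
  ∀ ⦃X' Y' : Scheme.{u}⦄ ⦃g : Y' ⟶ Y⦄ ⦃f' : X' ⟶ Y'⦄ ⦃g' : X' ⟶ X⦄ (h : IsPullback g' f' f g) (F : EtCoh.Ab X)
    (R : Y'.Etale) (t : EtCoh.sect (P g' F) ((EtCoh.bc f').obj R)),
    Supp.IsProperSect f' (P g' F) t → ∀ r, SurjAt h F R t r

theorem isIso_theta_of_surj {X Y X' Y' : Scheme.{u}} {f : X ⟶ Y} {g : Y' ⟶ Y} {f' : X' ⟶ Y'} {g' : X' ⟶ X}
    (h : IsPullback g' f' f g) (F : EtCoh.Ab X) [LocallyOfFiniteType f] [LocallyOfFiniteType f'] (hs : Surj f) :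
    IsIso (theta h F) :=
  isIso_theta h F (hs h F)

section Comp

variable {X P₀ Y X' P' Y' : Scheme.{u}} {j : X ⟶ P₀} {q : P₀ ⟶ Y} {g : Y' ⟶ Y} {j' : X' ⟶ P'} {q' : P' ⟶ Y'}
  {g' : X' ⟶ X} {gP : P' ⟶ P₀} (hj : IsPullback g' j' j gP) (hq : IsPullback gP q' q g)

section Lft

variable [LocallyOfFiniteType j] [LocallyOfFiniteType j']

theorem cmp_swap (V : Y.Etale) :
    Supp.cmp j' q' ((EtCoh.bc g).obj V) ≫ swap (hj.paste_vert hq).w V =
      (EtCoh.bc j').map (swap hq.w V) ≫ swap hj.w ((EtCoh.bc q).obj V) ≫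
        (EtCoh.bc g').map (Supp.cmp j q V) := by
  refine MorphismProperty.Over.Hom.ext ?_
  set A := Supp.cmp j' q' ((EtCoh.bc g).obj V) ≫ swap (hj.paste_vert hq).w V with hA
  set B := (EtCoh.bc j').map (swap hq.w V) ≫ swap hj.w ((EtCoh.bc q).obj V) ≫
    (EtCoh.bc g').map (Supp.cmp j q V) with hB
  have hsnd : A.left ≫ pullback.snd ((EtCoh.bc (j ≫ q)).obj V).hom g' =
      B.left ≫ pullback.snd ((EtCoh.bc (j ≫ q)).obj V).hom g' :=
    (MorphismProperty.Over.w A).trans (MorphismProperty.Over.w B).symm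
  refine pullback.hom_ext (pullback.hom_ext ?_ ?_) hsnd
  · have eA : (A.left ≫ pullback.fst ((EtCoh.bc (j ≫ q)).obj V).hom g') ≫ pullback.fst V.hom (j ≫ q) =
        EtShriek.prV j' ((EtCoh.bc q').obj ((EtCoh.bc g).obj V)) ≫ EtShriek.prV q' ((EtCoh.bc g).obj V) ≫
          pullback.fst V.hom g := by
      refine (Category.assoc _ _ _).trans ((Category.assoc _ _ _).trans ?_)
      refine (congrArg ((Supp.cmp j' q' _).left ≫ ·) ((Category.assoc _ _ _).symm.trans
        (down_fst (hj.paste_vert hq) V))).trans ?_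
      exact (Category.assoc _ _ _).symm.trans ((congrArg (· ≫ _) (Supp.cmp_fst j' q' _)).trans (Category.assoc _ _ _))
    have eB : (B.left ≫ pullback.fst ((EtCoh.bc (j ≫ q)).obj V).hom g') ≫ pullback.fst V.hom (j ≫ q) =
        EtShriek.prV j' ((EtCoh.bc q').obj ((EtCoh.bc g).obj V)) ≫ EtShriek.prV q' ((EtCoh.bc g).obj V) ≫
          pullback.fst V.hom g := by
      have e1 : ((EtCoh.bc g').map (Supp.cmp j q V)).left ≫ pullback.fst ((EtCoh.bc (j ≫ q)).obj V).hom g' ≫
          pullback.fst V.hom (j ≫ q) = pullback.fst ((EtCoh.bc j).obj ((EtCoh.bc q).obj V)).hom g' ≫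
            EtShriek.prV j ((EtCoh.bc q).obj V) ≫ EtShriek.prV q V :=
        (Category.assoc _ _ _).symm.trans ((congrArg (· ≫ _) (EtCoh.isPullback_bc_map g' (Supp.cmp j q V)).w).trans
          ((Category.assoc _ _ _).trans (congrArg (_ ≫ ·) (Supp.cmp_fst j q V))))
      have e2 := down_fst hj ((EtCoh.bc q).obj V)
      have e3 := (EtCoh.isPullback_bc_map j' (swap hq.w V)).w
      have e4 := down_fst hq V
      refine ((Category.assoc _ _ _).trans ((Category.assoc _ _ _).trans (congrArg (_ ≫ ·) ((Category.assoc _ _ _).trans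
        (congrArg (_ ≫ ·) e1))))).trans ?_
      refine (congrArg (_ ≫ ·) ((Category.assoc _ _ _).symm.trans ((Category.assoc _ _ _).symm.trans
        ((congrArg (· ≫ _) e2).trans (Category.assoc _ _ _))))).trans ?_
      refine (Category.assoc _ _ _).symm.trans ((congrArg (· ≫ _) e3).trans ((Category.assoc _ _ _).trans ?_))
      exact congrArg (_ ≫ ·) ((Category.assoc _ _ _).symm.trans e4)
    exact eA.trans eB.symm
  · have key : ∀ C : (EtCoh.bc j').obj ((EtCoh.bc q').obj ((EtCoh.bc g).obj V)) ⟶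
          (EtCoh.bc g').obj ((EtCoh.bc (j ≫ q)).obj V),
        (C.left ≫ pullback.fst ((EtCoh.bc (j ≫ q)).obj V).hom g') ≫ pullback.snd V.hom (j ≫ q) =
          (C.left ≫ pullback.snd ((EtCoh.bc (j ≫ q)).obj V).hom g') ≫ g' := fun C =>
      (Category.assoc _ _ _).trans ((congrArg (C.left ≫ ·) pullback.condition).trans (Category.assoc _ _ _).symm)
    exact (key A).trans ((congrArg (· ≫ g') hsnd).trans (key B).symm)

variable (F : EtCoh.Ab X)

/-- `psi` of a composition. -/
theorem psi_comp (V : Y.Etale) (s : EtCoh.sect F ((EtCoh.bc (j ≫ q)).obj V)) :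
    (P g' F).obj.map (Supp.cmp j' q' ((EtCoh.bc g).obj V)).op (psi (hj.paste_vert hq) F V s) =
      (P g' F).obj.map ((EtCoh.bc j').map (swap hq.w V)).op
        (psi hj F ((EtCoh.bc q).obj V) (F.obj.map (Supp.cmp j q V).op s)) := by
  rw [psi, psi, EtSite.BC.eta_naturality, ← Functor.map_comp_apply, ← op_comp, ← Functor.map_comp_apply,
    ← op_comp, ← Functor.map_comp_apply, ← op_comp, cmp_swap hj hq V, Category.assoc]

theorem cmp_injective {V : Y.Etale} {s t : EtCoh.sect F ((EtCoh.bc (j ≫ q)).obj V)}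
    (e : F.obj.map (Supp.cmp j q V).op s = F.obj.map (Supp.cmp j q V).op t) : s = t :=
  ((ConcreteCategory.isIso_iff_bijective (F.obj.map (Supp.cmp j q V).op)).1 inferInstance).1 e

variable [LocallyOfFiniteType q] [IsSeparated q] [LocallyOfFiniteType q'] [IsSeparated q']

/-- Lifting along a composition at one square. -/
theorem surjAt_comp (hsj : Surj j) (hsq : Surj q) (R : Y'.Etale)
    (t : EtCoh.sect (P g' F) ((EtCoh.bc (j' ≫ q')).obj R)) (ht : Supp.IsProperSect (j' ≫ q') (P g' F) t)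
    (r : R.left) : SurjAt (hj.paste_vert hq) F R t r := by
  haveI := isIso_theta_of_surj hj F hsj
  let F' := P g' F
  let θ := theta hj F
  let t₁ : EtShriek.shriekSubgroup j' F' ((EtCoh.bc q').obj R) :=
    ⟨F'.obj.map (Supp.cmp j' q' R).op t, Supp.cmp_mem j' q' F' ⟨t, (Supp.mem_shriekSubgroup_iff _ F' t).2 ht⟩⟩
  have ht₁ : Supp.IsProperSect q' (Supp.shriekSheaf j' F') t₁ :=
    (Supp.mem_shriekSubgroup_iff q' (Supp.shriekSheaf j' F') _).1
      (Supp.cmp_mem_outer j' q' F' ⟨t, (Supp.mem_shriekSubgroup_iff _ F' t).2 ht⟩)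
  let u : EtCoh.sect (P gP (Supp.shriekSheaf j F)) ((EtCoh.bc q').obj R) := (inv θ).hom.app _ t₁
  have hu : θ.hom.app (op ((EtCoh.bc q').obj R)) u = t₁ :=
    ConcreteCategory.congr_hom (congrArg (fun φ : Supp.shriekSheaf j' F' ⟶ Supp.shriekSheaf j' F' =>
      φ.hom.app (op ((EtCoh.bc q').obj R))) (IsIso.inv_hom_id θ)) t₁
  have hup : Supp.IsProperSect q' (P gP (Supp.shriekSheaf j F)) u :=
    Supp.isProperOver_of_subset _ (Supp.isClosed_supp _ _) (EtShriek.sectSupp_map_subset (inv θ) _ t₁) ht₁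
  obtain ⟨V, sQ, R', a, b, r', hr, hsQ, he⟩ := hsq hq (Supp.shriekSheaf j F) R u hup r
  obtain ⟨sx, hsx⟩ := (Supp.bijective_cmpApp j q F (op V)).2
    ⟨sQ, (Supp.mem_shriekSubgroup_iff q (Supp.shriekSheaf j F) sQ).2 hsQ⟩
  refine ⟨V, sx.1, R', a, b, r', hr, (Supp.mem_shriekSubgroup_iff (j ≫ q) F sx.1).1 sx.2, ?_⟩
  have hsx' : F.obj.map (Supp.cmp j q V).op sx.1 = sQ.1 := congrArg (fun z => z.1.1) hsx
  -- apply the comparison of the inner morphism
  have h1 : (θ.hom.app (op ((EtCoh.bc q').obj R')) ((P gP (Supp.shriekSheaf j F)).obj.map ((EtCoh.bc q').map a).op u)).1 =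
      F'.obj.map ((EtCoh.bc j').map ((EtCoh.bc q').map a)).op (F'.obj.map (Supp.cmp j' q' R).op t) := by
    refine (congrArg Subtype.val ((NatTrans.naturality_apply θ.hom ((EtCoh.bc q').map a).op u).trans
      (congrArg _ hu))).trans ?_
    rfl
  have h2 : (θ.hom.app (op ((EtCoh.bc q').obj R')) ((P gP (Supp.shriekSheaf j F)).obj.map ((EtCoh.bc q').map b).op
      (psi hq (Supp.shriekSheaf j F) V sQ))).1 =
      F'.obj.map ((EtCoh.bc j').map ((EtCoh.bc q').map b)).op (F'.obj.map ((EtCoh.bc j').map (swap hq.w V)).op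
        (psi hj F ((EtCoh.bc q).obj V) sQ.1)) := by
    refine (congrArg Subtype.val (NatTrans.naturality_apply θ.hom ((EtCoh.bc q').map b).op _)).trans ?_
    exact congrArg (F'.obj.map ((EtCoh.bc j').map ((EtCoh.bc q').map b)).op) (theta_map_eta hj F (swap hq.w V) sQ)
  have h3 := h1.symm.trans ((congrArg (fun z => (θ.hom.app (op ((EtCoh.bc q').obj R')) z).1) he).trans h2)
  rw [Supp.cmp_nat j' q' F' a, ← hsx', ← psi_comp hj hq, Supp.cmp_nat j' q' F' b] at h3
  exact cmp_injective F' h3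

end Lft

end Comp

/-- Lifting composes. -/
theorem surj_comp {X P₀ Y : Scheme.{u}} (j : X ⟶ P₀) (q : P₀ ⟶ Y) [LocallyOfFiniteType j] [LocallyOfFiniteType q]
    [IsSeparated q] (hsj : Surj j) (hsq : Surj q) : Surj (j ≫ q) := by
  intro X' Y' g f' g' h F R t ht r
  obtain ⟨j', hj1, hf⟩ : ∃ j' : X' ⟶ pullback q g, j' ≫ pullback.fst q g = g' ≫ j ∧ j' ≫ pullback.snd q g = f' :=
    ⟨pullback.lift (g' ≫ j) f' ((Category.assoc _ _ _).trans h.w), pullback.lift_fst _ _ _, pullback.lift_snd _ _ _⟩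
  have hq : IsPullback (pullback.fst q g) (pullback.snd q g) q g := IsPullback.of_hasPullback q g
  have hj : IsPullback g' j' j (pullback.fst q g) :=
    IsPullback.of_bot (hf.symm ▸ h) hj1.symm hq
  subst hf
  haveI : LocallyOfFiniteType j' := MorphismProperty.of_isPullback hj inferInstance
  exact surjAt_comp hj hq F hsj hsq R t ht r

end Groth.L27.ShriekBC
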