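import Groth.Agent.L27.ExtZero.ShriekComp
import Groth.Agent.L27.EtSite.EtaLocal
import Groth.Agent.L27.EtSite.BaseChangeIso

/-! # The base change map for direct images with proper support -/

universe u

open CategoryTheory CategoryTheory.Limits AlgebraicGeometry Opposite

set_option backward.isDefEq.respectTransparency.types false
set_option linter.style.haveILetI false
set_option linter.unusedSectionVars false
set_option linter.unusedVariables false

namespace Groth.L27.ShriekBC

open EtSite.BC (P eta swap psi)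

section SuppEta

variable {T S : Scheme.{u}} (m : T ⟶ S) (G : EtCoh.Ab S)

/-- The support of the inverse image of a section is the inverse image of the support. -/
theorem supp_eta (U : S.Etale) (s : EtCoh.sect G U) :
    EtShriek.sectSupp (P m G) ((EtCoh.bc m).obj U) (eta m G U s) =
      (pullback.fst U.hom m) ⁻¹' EtShriek.sectSupp G U s := by
  refine Set.Subset.antisymm (fun x hx W a hw e => ?_) (fun x hx W a hw e => ?_)
  · obtain ⟨w, hw⟩ := hw
    obtain ⟨z, -, hz⟩ := Scheme.exists_preimage_of_isPullback (EtCoh.isPullback_bc_map m a).flip w x hw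
    refine hx _ ((EtCoh.bc m).map a) ⟨z, hz⟩ ?_
    rw [← EtSite.BC.eta_naturality, e, map_zero]
  · obtain ⟨q, hq⟩ := hw
    obtain ⟨V', b, v, hv, hb⟩ := EtSite.EtaLocal.eq_near m G a q s 0 (e.trans (by rw [map_zero, map_zero]))
    refine hx V' b ⟨v, hv.trans (congrArg _ hq)⟩ (hb.trans (map_zero _))

end SuppEta

variable {X Y X' Y' : Scheme.{u}} {f : X ⟶ Y} {g : Y' ⟶ Y} {f' : X' ⟶ Y'} {g' : X' ⟶ X}
  (h : IsPullback g' f' f g)

/-- The projection `X' ×_{Y'} (Y' ×_Y V) ⟶ X ×_Y V`. -/
noncomputable abbrev down (V : Y.Etale) :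
    ((EtCoh.bc f').obj ((EtCoh.bc g).obj V)).left ⟶ ((EtCoh.bc f).obj V).left :=
  (swap h.w V).left ≫ pullback.fst ((EtCoh.bc f).obj V).hom g'

theorem down_fst (V : Y.Etale) :
    down h V ≫ EtShriek.prV f V = EtShriek.prV f' ((EtCoh.bc g).obj V) ≫ pullback.fst V.hom g := by
  refine (Category.assoc _ _ _).trans ?_
  refine (Category.assoc _ _ _).symm.trans ((congrArg (· ≫ _) (pullback.lift_fst _ _ _)).trans ?_)
  exact pullback.lift_fst _ _ _

theorem down_snd (V : Y.Etale) :
    down h V ≫ pullback.snd V.hom f = ((EtCoh.bc f').obj ((EtCoh.bc g).obj V)).hom ≫ g' := by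
  refine (Category.assoc _ _ _).trans ?_
  refine (Category.assoc _ _ _).symm.trans ((congrArg (· ≫ _) (pullback.lift_fst _ _ _)).trans ?_)
  exact pullback.lift_snd _ _ _

theorem isPullback_down (V : Y.Etale) :
    IsPullback (down h V) (EtShriek.prV f' ((EtCoh.bc g).obj V)) (EtShriek.prV f V) (pullback.fst V.hom g) := by
  refine IsPullback.of_right (h₁₂ := pullback.snd V.hom f) (v₁₃ := f) (h₂₂ := V.hom) ?_ (down_fst h V)
    (IsPullback.of_hasPullback V.hom f).flip
  have e1 : pullback.fst V.hom g ≫ V.hom = pullback.snd V.hom g ≫ g := pullback.condition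
  have key : IsPullback (((EtCoh.bc f').obj ((EtCoh.bc g).obj V)).hom ≫ g')
      (EtShriek.prV f' ((EtCoh.bc g).obj V)) f (pullback.snd V.hom g ≫ g) :=
    (IsPullback.of_hasPullback (pullback.snd V.hom g) f').flip.paste_horiz h
  exact (congrArg₂ (fun a d => IsPullback a (EtShriek.prV f' ((EtCoh.bc g).obj V)) f d) (down_snd h V) e1).mpr key

/-- The projection of a pulled back neighbourhood. -/
noncomputable abbrev downB {R : Y'.Etale} {V : Y.Etale} (b : R ⟶ (EtCoh.bc g).obj V) :
    ((EtCoh.bc f').obj R).left ⟶ ((EtCoh.bc f).obj V).left :=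
  ((EtCoh.bc f').map b).left ≫ down h V

theorem isPullback_downB {R : Y'.Etale} {V : Y.Etale} (b : R ⟶ (EtCoh.bc g).obj V) :
    IsPullback (downB h b) (EtShriek.prV f' R) (EtShriek.prV f V) (b.left ≫ pullback.fst V.hom g) :=
  (EtCoh.isPullback_bc_map f' b).paste_horiz (isPullback_down h V)

variable (F : EtCoh.Ab X)

theorem supp_psi (V : Y.Etale) (s : EtCoh.sect F ((EtCoh.bc f).obj V)) :
    EtShriek.sectSupp (P g' F) ((EtCoh.bc f').obj ((EtCoh.bc g).obj V)) (psi h F V s) =
      (down h V) ⁻¹' EtShriek.sectSupp F ((EtCoh.bc f).obj V) s := by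
  rw [psi, Supp.supp_map_eq, supp_eta]
  rfl

theorem supp_map_psi {R : Y'.Etale} {V : Y.Etale} (b : R ⟶ (EtCoh.bc g).obj V)
    (s : EtCoh.sect F ((EtCoh.bc f).obj V)) :
    EtShriek.sectSupp (P g' F) ((EtCoh.bc f').obj R)
        ((P g' F).obj.map ((EtCoh.bc f').map b).op (psi h F V s)) =
      (downB h b) ⁻¹' EtShriek.sectSupp F ((EtCoh.bc f).obj V) s := by
  rw [Supp.supp_map_eq, supp_psi]
  rfl

theorem isProperSect_psi (V : Y.Etale) {s : EtCoh.sect F ((EtCoh.bc f).obj V)} (hs : Supp.IsProperSect f F s) :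
    Supp.IsProperSect f' (P g' F) (psi h F V s) := by
  show ClSub.IsProperOver _ _
  rw [supp_psi]
  exact Supp.isProperOver_preimage (isPullback_down h V) hs

/-- The transpose of the base change map. -/
noncomputable def bcT : (EtCoh.push f).obj F ⟶ (EtCoh.push g).obj ((EtCoh.push f').obj ((EtCoh.pull g').obj F)) :=
  (EtCoh.pullPushAdj g).homEquiv _ _ (EtCoh.baseChange0 f g f' g' h.w F)

theorem bcT_app (V : Y.Etale) (s : EtCoh.sect F ((EtCoh.bc f).obj V)) :
    (bcT h F).hom.app (op V) s = psi h F V s := by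
  rw [bcT, EtCoh.baseChange0, Equiv.apply_symm_apply, psi, ← EtSite.BC.swap_eq h.w V]
  exact EtSite.BC.map_map_map (P g' F).obj _ _ _ _

theorem psi_zero (V : Y.Etale) : psi h F V 0 = 0 := by
  rw [← bcT_app]
  exact map_zero ((bcT h F).hom.app (op V)).hom

theorem psi_sub (V : Y.Etale) (s t : EtCoh.sect F ((EtCoh.bc f).obj V)) :
    psi h F V (s - t) = psi h F V s - psi h F V t := by
  simp only [← bcT_app]
  exact map_sub ((bcT h F).hom.app (op V)).hom s t

theorem psi_map {V V' : Y.Etale} (a : V' ⟶ V) (s : EtCoh.sect F ((EtCoh.bc f).obj V)) :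
    psi h F V' (F.obj.map ((EtCoh.bc f).map a).op s) =
      (P g' F).obj.map ((EtCoh.bc f').map ((EtCoh.bc g).map a)).op (psi h F V s) := by
  simp only [← bcT_app]
  exact NatTrans.naturality_apply (bcT h F).hom a.op s

/-- Every section with proper support comes, etale locally on the base, from downstairs. -/
def SurjAt (R : Y'.Etale) (t : EtCoh.sect (P g' F) ((EtCoh.bc f').obj R)) (r : R.left) : Prop :=
  ∃ (V : Y.Etale) (s : EtCoh.sect F ((EtCoh.bc f).obj V)) (R' : Y'.Etale) (a : R' ⟶ R)
    (b : R' ⟶ (EtCoh.bc g).obj V) (r' : R'.left), a.left r' = r ∧ Supp.IsProperSect f F s ∧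
      (P g' F).obj.map ((EtCoh.bc f').map a).op t =
        (P g' F).obj.map ((EtCoh.bc f').map b).op (psi h F V s)

variable [LocallyOfFiniteType f] [LocallyOfFiniteType f']

theorem mem_psi {V : Y.Etale} (s : EtShriek.shriekSubgroup f F V) :
    (bcT h F).hom.app (op V) s.1 ∈ EtShriek.shriekSubgroup f' (P g' F) ((EtCoh.bc g).obj V) := by
  rw [bcT_app]
  exact (Supp.mem_shriekSubgroup_iff f' _ _).2 (isProperSect_psi h F V ((Supp.mem_shriekSubgroup_iff f F s.1).1 s.2))

/-- `psi` on sections with proper support. -/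
noncomputable def beta : Supp.shriekSheaf f F ⟶ (EtCoh.push g).obj (Supp.shriekSheaf f' (P g' F)) :=
  ⟨{ app := fun V => AddCommGrpCat.ofHom (AddMonoidHom.mk'
        (fun s : EtShriek.shriekSubgroup f F V.unop =>
          (⟨(bcT h F).hom.app V s.1, mem_psi h F s⟩ :
            EtShriek.shriekSubgroup f' (P g' F) ((EtCoh.bc g).obj V.unop)))
        (fun s t => Subtype.ext (map_add ((bcT h F).hom.app V).hom s.1 t.1)))
     naturality := fun V V' a => AddCommGrpCat.hom_ext (AddMonoidHom.ext fun s =>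
        Subtype.ext (NatTrans.naturality_apply (bcT h F).hom a s.1)) }⟩

/-- The base change map for direct images with proper support. -/
noncomputable def theta : (EtCoh.pull g).obj (Supp.shriekSheaf f F) ⟶ Supp.shriekSheaf f' (P g' F) :=
  ((EtCoh.pullPushAdj g).homEquiv _ _).symm (beta h F)

theorem theta_eta (V : Y.Etale) (s : EtShriek.shriekSubgroup f F V) :
    ((theta h F).hom.app (op ((EtCoh.bc g).obj V)) (eta g (Supp.shriekSheaf f F) V s)).1 = psi h F V s.1 := by
  have e : (EtCoh.pullPushAdj g).homEquiv _ _ (theta h F) = beta h F := Equiv.apply_symm_apply _ _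
  refine Eq.trans ?_ (bcT_app h F V s.1)
  refine congrArg Subtype.val (Eq.trans ?_ (congrArg (fun φ : Supp.shriekSheaf f F ⟶
    (EtCoh.push g).obj (Supp.shriekSheaf f' (P g' F)) => φ.hom.app (op V) s) e))
  exact ((congrArg (fun φ : Supp.shriekSheaf f F ⟶ (EtCoh.push g).obj (Supp.shriekSheaf f' (P g' F)) =>
      φ.hom.app (op V) s) ((EtCoh.pullPushAdj g).homEquiv_unit (X := Supp.shriekSheaf f F)
        (Y := Supp.shriekSheaf f' (P g' F)) (f := theta h F))).trans
    (ConcreteCategory.comp_apply _ _ _)).symm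

theorem theta_map_eta {R : Y'.Etale} {V : Y.Etale} (b : R ⟶ (EtCoh.bc g).obj V) (s : EtShriek.shriekSubgroup f F V) :
    ((theta h F).hom.app (op R) (((EtCoh.pull g).obj (Supp.shriekSheaf f F)).obj.map b.op
        (eta g (Supp.shriekSheaf f F) V s))).1 =
      (P g' F).obj.map ((EtCoh.bc f').map b).op (psi h F V s.1) := by
  refine (congrArg Subtype.val (NatTrans.naturality_apply (theta h F).hom b.op _)).trans ?_
  exact congrArg ((P g' F).obj.map ((EtCoh.bc f').map b).op) (theta_eta h F V s)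

/-- The open complement of the image of a section with proper support. -/
theorem exists_open_eq_zero {V : Y.Etale} {s : EtCoh.sect F ((EtCoh.bc f).obj V)} (hs : Supp.IsProperSect f F s)
    {v : V.left} (hv : ∀ x, EtShriek.prV f V x = v → x ∉ EtShriek.sectSupp F ((EtCoh.bc f).obj V) s) :
    ∃ (W : Y.Etale) (a : W ⟶ V) (w : W.left), a.left w = v ∧ F.obj.map ((EtCoh.bc f).map a).op s = 0 := by
  haveI := Supp.locallyOfFiniteType_prV f V
  let O : V.left.Opens := ⟨(EtShriek.prV f V '' EtShriek.sectSupp F ((EtCoh.bc f).obj V) s)ᶜ,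
    (Supp.isClosed_image _ hs).isOpen_compl⟩
  haveI : Etale V.hom := V.prop
  let W : Y.Etale := Scheme.Etale.mk (O.ι ≫ V.hom)
  let a : W ⟶ V := MorphismProperty.Over.homMk O.ι rfl
  refine ⟨W, a, ⟨v, fun ⟨x, hx, hxv⟩ => hv x hxv hx⟩, rfl, Supp.eq_zero_of_supp F _ fun x hx => ?_⟩
  have h1 := (Supp.supp_map F ((EtCoh.bc f).map a) s) hx
  have h2 : EtShriek.prV f V (((EtCoh.bc f).map a).left x) = O.ι (EtShriek.prV f W x) :=
    (Scheme.Hom.comp_apply _ _ _).symm.trans
      ((congr($((EtCoh.isPullback_bc_map f a).w) x)).trans (Scheme.Hom.comp_apply _ _ _))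
  exact (EtShriek.prV f W x).2 ⟨_, h1, h2⟩

/-- The base change map is a monomorphism. -/
theorem mono_theta : Mono (theta h F) := by
  let H := (EtCoh.pull g).obj (Supp.shriekSheaf f F)
  have key : ∀ (R : Y'.Etale) (t : EtCoh.sect H R), (theta h F).hom.app (op R) t = 0 → t = 0 := by
    intro R t ht
    refine EtSite.ext_of_locally H fun r => ?_
    let c : R ⟶ (EtCoh.bc g).obj (EtCoh.top Y) := MorphismProperty.Over.homMk
      (pullback.lift (R.hom ≫ g) R.hom (Category.comp_id _)) (pullback.lift_snd _ _ _)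
    obtain ⟨V, -, Q, d, e, q, s, hd, -, heq⟩ := EtSite.EtaLocal.exists_local g (Supp.shriekSheaf f F) c t r
    have hz : (P g' F).obj.map ((EtCoh.bc f').map e).op (psi h F V s.1) = 0 := by
      rw [← theta_map_eta, ← heq]
      refine (congrArg Subtype.val ((NatTrans.naturality_apply (theta h F).hom d.op t).trans
        ((congrArg _ ht).trans (map_zero _)))).trans ?_
      rfl
    obtain ⟨W, a, w, hw, h0⟩ := exists_open_eq_zero F ((Supp.mem_shriekSubgroup_iff f F s.1).1 s.2)
      (v := (e.left ≫ pullback.fst V.hom g) q) fun x hx hxs => by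
        obtain ⟨u, hu, -⟩ := Scheme.exists_preimage_of_isPullback (isPullback_downB h e) x q hx
        have : u ∈ EtShriek.sectSupp (P g' F) _ ((P g' F).obj.map ((EtCoh.bc f').map e).op (psi h F V s.1)) := by
          rw [supp_map_psi]
          exact Set.mem_preimage.2 (hu.symm ▸ hxs)
        rw [hz, Supp.supp_zero] at this
        exact this
    obtain ⟨z, -, hz'⟩ := Scheme.exists_preimage_of_isPullback (EtCoh.isPullback_bc_map g a).flip w (e.left q)
      (hw.trans (Scheme.Hom.comp_apply _ _ _))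
    obtain ⟨Q', i, j, q', hi, -, hij⟩ := EtSite.exists_common e ((EtCoh.bc g).map a) q z hz'.symm
    refine ⟨Q', i ≫ d, q', ?_, ?_⟩
    · exact (Scheme.Hom.comp_apply _ _ _).trans ((congrArg d.left hi).trans hd)
    · rw [map_zero, op_comp, Functor.map_comp_apply, heq, ← Functor.map_comp_apply, ← op_comp, hij, op_comp,
        Functor.map_comp_apply, ← EtSite.BC.eta_naturality]
      rw [show (Supp.shriekSheaf f F).obj.map a.op s = 0 from Subtype.ext h0, map_zero, map_zero]
  haveI : ∀ R, Mono ((theta h F).hom.app R) := fun R =>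
    (AddCommGrpCat.mono_iff_injective _).2 ((injective_iff_map_eq_zero ((theta h F).hom.app R).hom).2 (key R.unop))
  haveI : Mono (theta h F).hom := NatTrans.mono_of_mono_app _
  exact (sheafToPresheaf _ _).mono_of_mono_map this

theorem isIso_theta (hs : ∀ (R : Y'.Etale) (t : EtCoh.sect (P g' F) ((EtCoh.bc f').obj R)),
      Supp.IsProperSect f' (P g' F) t → ∀ r, SurjAt h F R t r) : IsIso (theta h F) := by
  haveI := mono_theta h F
  haveI : Epi (theta h F) := by
    refine (Sheaf.isLocallySurjective_iff_epi' (φ := theta h F)).1 ⟨fun {R} t => (EtSite.mem_topology_iff _).2 fun r => ?_⟩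
    obtain ⟨V, s, R', a, b, r', hr, hp, he⟩ := hs R t.1 ((Supp.mem_shriekSubgroup_iff f' _ t.1).1 t.2) r
    refine ⟨R', a, r', ⟨((EtCoh.pull g).obj (Supp.shriekSheaf f F)).obj.map b.op
      (eta g (Supp.shriekSheaf f F) V ⟨s, (Supp.mem_shriekSubgroup_iff f F s).2 hp⟩), Subtype.ext ?_⟩, hr⟩
    exact (theta_map_eta h F b ⟨s, _⟩).trans he.symm
  exact isIso_of_mono_of_epi _

end Groth.L27.ShriekBC
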